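import Cfsg.Agent.H330.C3.KillP2
import Cfsg.Agent.H601.C3.Std

/-!
# S1920, case B, `PSU_n(q)`: unitary components with `m ≥ 3` (helper330)
-/

set_option autoImplicit false
set_option linter.unusedSectionVars false

open Subgroup Module

namespace Cfsg.Agent.H330.C3

open Cfsg.Agent.H415.C3 Cfsg.Agent.H601.C3 Cfsg.Agent.H375.C3

variable {K : Type*} [Field K] {V : Type*} [AddCommGroup V] [Module K V]

section Mat

variable {σ : K ≃+* K} {m : ℕ}

/-- an element of order 8 of `SU_m(q)` with a nonscalar fourth power -/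
theorem exists_T [Finite K] {q : ℕ} (hq : Nat.card K = q ^ 2) (h2 : (2 : K) ≠ 0) (hσ : ∀ c, σ c = c ^ q)
    (h1 : ∃ a, σ a ≠ a) (h22 : ∀ a, σ (σ a) = a) (hm : 3 ≤ m) :
    ∃ T T' : Matrix (Fin m) (Fin m) K, T * T' = 1 ∧ T' * T = 1 ∧ hc σ T * T = 1 ∧ T.det = 1 ∧ T ^ 8 = 1 ∧
      ¬ ∀ X, T ^ 4 * X = X * T ^ 4 := by
  classical
  obtain ⟨l, hl⟩ := exists_eight hq h2
  have hl8 : l ^ 8 = 1 := by rw [← hl]; exact pow_orderOf_eq_one l
  have hl4 : l ^ 4 ≠ 1 := by
    intro h
    have h3 := orderOf_dvd_of_pow_eq_one h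
    rw [hl] at h3
    norm_num at h3
  have hqodd := odd_q hq h2
  obtain ⟨t, ht⟩ : ∃ t, q = 2 * t + 1 := ⟨q / 2, by omega⟩
  have hq1 : q - 1 + 1 = q := by omega
  have hlq : l ^ (q ^ 2) = l := by
    have h3 : (l : K) ^ (q ^ 2) = l := by
      have hft := Fintype.ofFinite K
      have h4 := FiniteField.pow_card (l : K)
      rwa [← Nat.card_eq_fintype_card, hq] at h4
    exact Units.ext (by rw [Units.val_pow_eq_pow_val, h3])
  let i0 : Fin m := ⟨0, by omega⟩
  let i1 : Fin m := ⟨1, by omega⟩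
  let i2 : Fin m := ⟨2, by omega⟩
  have h01 : i0 ≠ i1 := by simp [i0, i1]
  have h02 : i0 ≠ i2 := by simp [i0, i2]
  have h12 : i1 ≠ i2 := by simp [i1, i2]
  let f : Fin m → Kˣ := fun i => if i = i0 then l else if i = i1 then (l ^ q)⁻¹ else if i = i2 then l ^ (q - 1) else 1
  have hf0 : f i0 = l := if_pos rfl
  have hf1 : f i1 = (l ^ q)⁻¹ := by
    change (if i1 = i0 then l else if i1 = i1 then (l ^ q)⁻¹ else if i1 = i2 then l ^ (q - 1) else 1) = _
    rw [if_neg h01.symm, if_pos rfl]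
  have hf2 : f i2 = l ^ (q - 1) := by
    change (if i2 = i0 then l else if i2 = i1 then (l ^ q)⁻¹ else if i2 = i2 then l ^ (q - 1) else 1) = _
    rw [if_neg h02.symm, if_neg h12.symm, if_pos rfl]
  have hf : ∀ i, i ≠ i0 → i ≠ i1 → i ≠ i2 → f i = 1 := by
    intro i h3 h4 h5
    change (if i = i0 then l else if i = i1 then (l ^ q)⁻¹ else if i = i2 then l ^ (q - 1) else 1) = _
    rw [if_neg h3, if_neg h4, if_neg h5]
  have hf8 : ∀ i, f i ^ 8 = 1 := by
    intro i
    change (if i = i0 then l else if i = i1 then (l ^ q)⁻¹ else if i = i2 then l ^ (q - 1) else 1) ^ 8 = 1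
    split_ifs
    · exact hl8
    · rw [inv_pow, ← pow_mul, mul_comm, pow_mul, hl8, one_pow, inv_one]
    · rw [← pow_mul, mul_comm, pow_mul, hl8, one_pow]
    · exact one_pow 8
  -- the form
  let w : Equiv.Perm (Fin m) := Equiv.swap i0 i1
  have hw0 : w i0 = i1 := Equiv.swap_apply_left _ _
  have hw1 : w i1 = i0 := Equiv.swap_apply_right _ _
  have hw : ∀ i, i ≠ i0 → i ≠ i1 → w i = i := fun i h3 h4 => Equiv.swap_apply_of_ne_of_ne h3 h4
  have hww : ∀ i, w (w i) = i := fun i => Equiv.swap_apply_self _ _ _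
  let H : Matrix (Fin m) (Fin m) K := fun i k => if w i = k then 1 else 0
  have hHsym : hc σ H = H := by
    ext i k
    rw [hc_apply]
    change σ (if w k = i then 1 else 0) = if w i = k then 1 else 0
    have h3 : (w k = i) ↔ (w i = k) := by
      constructor
      · rintro rfl; exact hww k
      · rintro rfl; exact hww i
    by_cases h4 : w i = k
    · rw [if_pos h4, if_pos (h3.2 h4), map_one]
    · rw [if_neg h4, if_neg (fun h => h4 (h3.1 h)), map_zero]
  have hHH : H * H = 1 := by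
    ext i k
    rw [Matrix.mul_apply, Finset.sum_eq_single (w i)]
    · change (if w i = w i then (1 : K) else 0) * (if w (w i) = k then 1 else 0) = _
      rw [if_pos rfl, one_mul, hww, Matrix.one_apply]
    · intro b _ hb
      change (if w i = b then (1 : K) else 0) * _ = 0
      rw [if_neg hb.symm, zero_mul]
    · intro h
      exact absurd (Finset.mem_univ _) h
  obtain ⟨P, Q, hPQ, hQP, hHP⟩ := exists_sqrt h1 h22 hHsym hHH
  -- the diagonal matrix
  let D : Matrix (Fin m) (Fin m) K := Matrix.diagonal fun i => (f i : K)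
  let D' : Matrix (Fin m) (Fin m) K := Matrix.diagonal fun i => (((f i)⁻¹ : Kˣ) : K)
  have hDD' : D * D' = 1 := by
    change Matrix.diagonal _ * Matrix.diagonal _ = 1
    rw [Matrix.diagonal_mul_diagonal, ← Matrix.diagonal_one]
    congr 1
    funext i
    exact Units.mul_inv _
  have hD'D : D' * D = 1 := by
    change Matrix.diagonal _ * Matrix.diagonal _ = 1
    rw [Matrix.diagonal_mul_diagonal, ← Matrix.diagonal_one]
    congr 1
    funext i
    exact Units.inv_mul _
  have hkey : ∀ i, (f i) ^ q * f (w i) = 1 := by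
    intro i
    by_cases h3 : i = i0
    · rw [h3, hw0, hf0, hf1, mul_inv_cancel]
    · by_cases h4 : i = i1
      · rw [h4, hw1, hf0, hf1, inv_pow, ← pow_mul, ← pow_two, hlq, inv_mul_cancel]
      · rw [hw i h3 h4]
        by_cases h5 : i = i2
        · rw [h5, hf2, ← pow_succ, ← pow_mul]
          have h6 : (q - 1) * (q + 1) = q ^ 2 - 1 := by
            rw [ht]
            have : (2 * t + 1) ^ 2 = (2 * t + 1 - 1) * (2 * t + 1 + 1) + 1 := by
              rw [Nat.add_sub_cancel]; ring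
            omega
          have h7 : l ^ (q ^ 2 - 1) * l = l := by
            rw [← pow_succ, show q ^ 2 - 1 + 1 = q ^ 2 by
              have h9 : 0 < q ^ 2 := Nat.pow_pos (by omega)
              omega, hlq]
          rw [h6]
          exact mul_eq_right.1 h7
        · rw [hf i h3 h4 h5, one_pow, one_mul]
  have hDH : hc σ D * H * D = H := by
    have h3 : hc σ D = Matrix.diagonal fun i => ((f i : K)) ^ q := by
      ext i k
      rw [hc_apply]
      change σ (Matrix.diagonal (fun i => (f i : K)) k i) = _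
      by_cases h4 : i = k
      · rw [h4, Matrix.diagonal_apply_eq, Matrix.diagonal_apply_eq, hσ]
      · rw [Matrix.diagonal_apply_ne _ h4, Matrix.diagonal_apply_ne _ (Ne.symm h4), map_zero]
    rw [h3]
    ext i k
    rw [Matrix.mul_diagonal, Matrix.diagonal_mul]
    change (f i : K) ^ q * (if w i = k then 1 else 0) * (f k : K) = if w i = k then 1 else 0
    by_cases h4 : w i = k
    · rw [if_pos h4, mul_one, ← h4]
      have h5 := congrArg (Units.val : Kˣ → K) (hkey i)
      rwa [Units.val_mul, Units.val_pow_eq_pow_val, Units.val_one] at h5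
    · rw [if_neg h4, mul_zero, zero_mul]
  have hdD : D.det = 1 := by
    change (Matrix.diagonal _).det = 1
    rw [Matrix.det_diagonal]
    have h3 : ∏ i, (f i : K) = ((∏ i, f i : Kˣ) : K) := (Units.coe_prod _ _).symm
    rw [h3]
    have h4 : ∏ i, f i = 1 := by
      have h5 : ∀ i, f i = (Pi.mulSingle i0 l : Fin m → Kˣ) i * (Pi.mulSingle i1 (l ^ q)⁻¹ : Fin m → Kˣ) i *
          (Pi.mulSingle i2 (l ^ (q - 1)) : Fin m → Kˣ) i := by
        intro i
        by_cases h6 : i = i0
        · rw [h6, hf0, Pi.mulSingle_eq_same, Pi.mulSingle_eq_of_ne h01, Pi.mulSingle_eq_of_ne h02, mul_one, mul_one]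
        · by_cases h7 : i = i1
          · rw [h7, hf1, Pi.mulSingle_eq_same, Pi.mulSingle_eq_of_ne h01.symm, Pi.mulSingle_eq_of_ne h12, mul_one,
              one_mul]
          · by_cases h8 : i = i2
            · rw [h8, hf2, Pi.mulSingle_eq_same, Pi.mulSingle_eq_of_ne h02.symm, Pi.mulSingle_eq_of_ne h12.symm,
                one_mul, one_mul]
            · rw [hf i h6 h7 h8, Pi.mulSingle_eq_of_ne h6, Pi.mulSingle_eq_of_ne h7, Pi.mulSingle_eq_of_ne h8, one_mul,
                one_mul]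
      rw [Finset.prod_congr rfl fun i _ => h5 i, Finset.prod_mul_distrib, Finset.prod_mul_distrib,
        Fintype.prod_eq_single i0 (fun i hi => Pi.mulSingle_eq_of_ne hi _),
        Fintype.prod_eq_single i1 (fun i hi => Pi.mulSingle_eq_of_ne hi _),
        Fintype.prod_eq_single i2 (fun i hi => Pi.mulSingle_eq_of_ne hi _),
        Pi.mulSingle_eq_same, Pi.mulSingle_eq_same, Pi.mulSingle_eq_same]
      have h9 : l * (l ^ q)⁻¹ * l ^ (q - 1) = (l ^ q)⁻¹ * l ^ (q - 1 + 1) := by
        rw [pow_succ, mul_comm l, mul_assoc, mul_comm l]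
      rw [h9, hq1, inv_mul_cancel]
    rw [h4, Units.val_one]
  have hD8 : D ^ 8 = 1 := by
    change (Matrix.diagonal _) ^ 8 = 1
    rw [Matrix.diagonal_pow, ← Matrix.diagonal_one]
    congr 1
    funext i
    have h3 := congrArg (Units.val : Kˣ → K) (hf8 i)
    simpa using h3
  have hpow : ∀ n : ℕ, (P * D * Q) ^ n = P * D ^ n * Q := by
    intro n
    induction n with
    | zero => rw [pow_zero, pow_zero, mul_one, hPQ]
    | succ n ih =>
      rw [pow_succ, ih, pow_succ]
      calc P * D ^ n * Q * (P * D * Q) = P * D ^ n * (Q * P) * D * Q := by simp only [mul_assoc]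
        _ = _ := by rw [hQP, mul_one]; simp only [mul_assoc]
  refine ⟨P * D * Q, P * D' * Q, ?_, ?_, ?_, ?_, ?_, ?_⟩
  · calc P * D * Q * (P * D' * Q) = P * D * (Q * P) * D' * Q := by simp only [mul_assoc]
      _ = P * (D * D') * Q := by rw [hQP, mul_one]; simp only [mul_assoc]
      _ = 1 := by rw [hDD', mul_one, hPQ]
  · calc P * D' * Q * (P * D * Q) = P * D' * (Q * P) * D * Q := by simp only [mul_assoc]
      _ = P * (D' * D) * Q := by rw [hQP, mul_one]; simp only [mul_assoc]
      _ = 1 := by rw [hD'D, mul_one, hPQ]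
  · rw [hc_mul, hc_mul]
    calc hc σ Q * (hc σ D * hc σ P) * (P * D * Q) = hc σ Q * (hc σ D * (hc σ P * P) * D) * Q := by
          simp only [mul_assoc]
      _ = hc σ Q * (hc σ P * P) * Q := by rw [← hHP, hDH]
      _ = (hc σ Q * hc σ P) * (P * Q) := by simp only [mul_assoc]
      _ = 1 := by rw [← hc_mul, hPQ, hc_one, mul_one]
  · rw [Matrix.det_mul, Matrix.det_mul, hdD, mul_one, ← Matrix.det_mul, hPQ, Matrix.det_one]
  · rw [hpow, hD8, mul_one, hPQ]
  · intro h
    have h3 := h (P * Matrix.single i0 i2 1 * Q)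
    rw [hpow] at h3
    have h4 : D ^ 4 * Matrix.single i0 i2 1 = Matrix.single i0 i2 1 * D ^ 4 := by
      have h5 : Q * (P * D ^ 4 * Q * (P * Matrix.single i0 i2 1 * Q)) * P =
          Q * (P * Matrix.single i0 i2 1 * Q * (P * D ^ 4 * Q)) * P := by rw [h3]
      calc D ^ 4 * Matrix.single i0 i2 1 = (Q * P) * D ^ 4 * (Q * P) * Matrix.single i0 i2 1 * (Q * P) := by
            rw [hQP, one_mul, mul_one, mul_one]
        _ = Q * (P * D ^ 4 * Q * (P * Matrix.single i0 i2 1 * Q)) * P := by simp only [mul_assoc]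
        _ = Q * (P * Matrix.single i0 i2 1 * Q * (P * D ^ 4 * Q)) * P := h5
        _ = (Q * P) * Matrix.single i0 i2 1 * (Q * P) * D ^ 4 * (Q * P) := by simp only [mul_assoc]
        _ = _ := by rw [hQP, one_mul, mul_one, mul_one]
    have h5 : D ^ 4 = Matrix.diagonal ((fun i => (f i : K)) ^ 4) := Matrix.diagonal_pow _ _
    rw [h5] at h4
    have h9 := congrFun (congrFun h4 i0) i2
    rw [Matrix.mul_diagonal, Matrix.diagonal_mul, Matrix.single_apply_same, one_mul, mul_one] at h9
    have h11 : ((f i0 : Kˣ) : K) ^ 4 = ((f i2 : Kˣ) : K) ^ 4 := h9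
    rw [hf2, hf0, ← Units.val_pow_eq_pow_val, ← Units.val_pow_eq_pow_val] at h11
    have h12 := Units.ext h11
    rw [← pow_mul, ht, Nat.add_sub_cancel, show 2 * t * 4 = 8 * t by ring, pow_mul, hl8, one_pow] at h12
    exact hl4 h12

end Mat

section Main

variable {G : Type*} [Group G]
variable {Gh : Subgroup (V ≃ₗ[K] V)} {π : ↥Gh →* G} {N0 A E : Subgroup G} {z s x r : G}
  {ψ : ↥A →* Equiv.Perm (Fin 6)} {Nh Eh : Subgroup (V ≃ₗ[K] V)} {zh sh xh rh : V ≃ₗ[K] V}

/-- **Unitary components with `m ≥ 3` are impossible.** -/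
theorem unitary_three [Finite G] [Finite K] (h2 : (2 : K) ≠ 0) (Kt : Kit N0 A E z s x r ψ) (hL : Lin Gh π)
    (L : LKit Gh π N0 A E z s x r Nh Eh zh sh xh rh)
    {σ : K ≃+* K} {ad : Module.End K V → Module.End K V} (S : Star σ ad) {q : ℕ} (hq : Nat.card K = q ^ 2)
    (hσ : ∀ c, σ c = c ^ q) (h1 : ∃ a, σ a ≠ a) (h22 : ∀ a, σ (σ a) = a)
    (hGh : ∀ g : V ≃ₗ[K] V, ad (g : V →ₗ[K] V) * (g : V →ₗ[K] V) = 1 → LinearMap.det (g : V →ₗ[K] V) = 1 → g ∈ Gh)
    {m : ℕ} (hm : 3 ≤ m) {j : Matrix (Fin m) (Fin m) K →ₗ[K] Module.End K V} (mul : ∀ X Y, j (X * Y) = j X * j Y)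
    (inj : Function.Injective j)
    (comm : ∀ X, ∀ g ∈ Nh, j X * (g : V →ₗ[K] V) = (g : V →ₗ[K] V) * j X)
    (star : ∀ X, ad (j X) = j (hc σ X)) {d : ℕ} (hd : ∀ X, LinearMap.det (1 + j (X - 1)) = X.det ^ d) : False := by
  obtain ⟨T, T', hTT', hT'T, hTu, hTd, hT8, hTn⟩ := exists_T (m := m) hq h2 hσ h1 h22 hm
  let U : (Matrix (Fin m) (Fin m) K)ˣ := ⟨T, T', hTT', hT'T⟩
  let QU : (Matrix (Fin m) (Fin m) K)ˣ →* Module.End K V :=
    { toFun := fun U => 1 + j ((U : Matrix (Fin m) (Fin m) K) - 1)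
      map_one' := by rw [Units.val_one, sub_self, map_zero, add_zero]
      map_mul' := by
        intro U W
        have h3 : ((U * W : (Matrix (Fin m) (Fin m) K)ˣ) : Matrix (Fin m) (Fin m) K) - 1 =
            ((U : Matrix (Fin m) (Fin m) K) - 1) + ((W : Matrix (Fin m) (Fin m) K) - 1) +
              ((U : Matrix (Fin m) (Fin m) K) - 1) * ((W : Matrix (Fin m) (Fin m) K) - 1) := by
          rw [Units.val_mul]; noncomm_ring
        rw [h3, map_add, map_add, mul]
        noncomm_ring }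
  let LU : (Matrix (Fin m) (Fin m) K)ˣ →* (V ≃ₗ[K] V) := toGL QU
  have hco : ∀ U, co (LU U) = 1 + j ((U : Matrix (Fin m) (Fin m) K) - 1) := fun U => coe_toGL _ _
  have hUc : (U : Matrix (Fin m) (Fin m) K) = T := rfl
  have hmem : LU U ∈ Gh := by
    refine hGh _ ?_ ?_
    · change ad (co (LU U)) * co (LU U) = 1
      rw [hco, S.add, ad_one S, star, hUc]
      have h3 : hc σ (T - 1) = hc σ T - 1 := by
        have h4 : hc σ (T - 1 + 1) = hc σ (T - 1) + hc σ 1 := hc_add _ _
        rw [sub_add_cancel, hc_one] at h4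
        rw [h4, add_sub_cancel_right]
      rw [h3]
      have h5 : (1 + j (hc σ T - 1)) * (1 + j (T - 1)) = 1 + j ((hc σ T - 1) + (T - 1) + (hc σ T - 1) * (T - 1)) := by
        rw [map_add, map_add, mul]
        noncomm_ring
      have h6 : (hc σ T - 1) + (T - 1) + (hc σ T - 1) * (T - 1) = hc σ T * T - 1 := by noncomm_ring
      rw [h5, h6, hTu, sub_self, map_zero, add_zero]
    · change LinearMap.det (co (LU U)) = 1
      rw [hco, hd, hUc, hTd, one_pow]
  have hc : ∀ n ∈ Nh, LU U * n = n * LU U := by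
    intro n hn
    apply co_inj
    rw [co_mul, co_mul, hco, add_mul, mul_add, one_mul, mul_one, comm _ n hn]
  have hU8 : U ^ 8 = 1 := Units.ext (by rw [Units.val_pow_eq_pow_val, hUc, hT8, Units.val_one])
  have h5 := pow_four_mem Kt hL L hmem hc (k := 3) (by
    rw [show (2 : ℕ) ^ 3 = 8 from rfl, ← map_pow, hU8, map_one])
  rw [← map_pow] at h5
  apply hTn
  intro X
  have h6 : j X * co (LU (U ^ 4)) = co (LU (U ^ 4)) * j X := comm X _ h5
  rw [hco, mul_add, add_mul, mul_one, one_mul, ← mul, ← mul, ← map_add, ← map_add] at h6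
  have h7 := inj h6
  rw [mul_sub, mul_one, add_sub_cancel, sub_mul, one_mul, add_sub_cancel, Units.val_pow_eq_pow_val, hUc] at h7
  exact h7.symm

end Main

end Cfsg.Agent.H330.C3
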